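import Mathlib

/-!
Flat algebras over a ring with a nilpotent ideal with free successive quotients.
-/

set_option autoImplicit false
set_option linter.style.haveILetI false

universe u

open TensorProduct

namespace Groth.Agent.H21Gr

variable {A : Type u} [CommRing A] (J : Ideal A) (k : ℕ)

/-- reduction of `J ^ k` -/
noncomputable def grMap : ↥(J ^ k) →ₗ[A] (A ⧸ J) ⊗[A] ↥(J ^ k) := TensorProduct.mk A (A ⧸ J) ↥(J ^ k) 1

theorem grMap_surjective : Function.Surjective (grMap J k) :=
  TensorProduct.mk_surjective A _ _ Ideal.Quotient.mk_surjective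

theorem mem_of_grMap_eq_zero {x : ↥(J ^ k)} (hx : grMap J k x = 0) : (x : A) ∈ J ^ (k + 1) := by
  have h := congrArg (quotTensorEquivQuotSMul ↥(J ^ k) J) hx
  rw [map_zero, grMap, TensorProduct.mk_apply] at h
  change quotTensorEquivQuotSMul ↥(J ^ k) J (Ideal.Quotient.mk J 1 ⊗ₜ x) = 0 at h
  rw [quotTensorEquivQuotSMul_mk_tmul, one_smul, Submodule.Quotient.mk_eq_zero] at h
  have h2 := Submodule.mem_map_of_mem (f := (J ^ k : Submodule A A).subtype) h
  rw [Submodule.map_smul'', Submodule.map_top, Submodule.range_subtype] at h2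
  rw [pow_succ']
  exact h2

theorem grMap_eq_zero {x : ↥(J ^ k)} (hx : (x : A) ∈ J ^ (k + 1)) : grMap J k x = 0 := by
  have hx' : x ∈ J • (⊤ : Submodule A ↥(J ^ k)) := by
    refine (Submodule.map_le_map_iff_of_injective (f := (J ^ k : Submodule A A).subtype) Subtype.val_injective
      (Submodule.span A {x}) _).mp ?_ (Submodule.mem_span_singleton_self x)
    rw [Submodule.map_smul'', Submodule.map_top, Submodule.range_subtype, Submodule.map_span, Set.image_singleton,
      Submodule.span_singleton_le_iff_mem]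
    rw [pow_succ'] at hx
    exact hx
  refine (quotTensorEquivQuotSMul ↥(J ^ k) J).injective ?_
  rw [map_zero, grMap, TensorProduct.mk_apply]
  change quotTensorEquivQuotSMul ↥(J ^ k) J (Ideal.Quotient.mk J 1 ⊗ₜ x) = 0
  rw [quotTensorEquivQuotSMul_mk_tmul, one_smul, Submodule.Quotient.mk_eq_zero]
  exact hx'

theorem exists_expansion (hfree : Module.Free (A ⧸ J) ((A ⧸ J) ⊗[A] ↥(J ^ k))) {B : Type u} [CommRing B] [Algebra A B]
    {t : B} (ht : t ∈ (J ^ k).map (algebraMap A B)) :
    ∃ (σ : Type u) (s : Finset σ) (e : σ → A) (b : σ → B), (∀ i, e i ∈ J ^ k) ∧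
      t - ∑ i ∈ s, algebraMap A B (e i) * b i ∈ (J ^ (k + 1)).map (algebraMap A B) ∧
      ∀ (C : Type u) [CommRing C] [Algebra A C] [Module.Flat A C] (f : B →ₐ[A] C),
        f t ∈ (J ^ (k + 1)).map (algebraMap A C) → ∀ i ∈ s, f (b i) ∈ J.map (algebraMap A C) := by
  classical
  let Q := (A ⧸ J) ⊗[A] ↥(J ^ k)
  let bs := Module.Free.chooseBasis (A ⧸ J) Q
  choose e he using fun i => grMap_surjective J k (bs i)
  have hspan : ∀ x : ↥(J ^ k), ∃ c : Module.Free.ChooseBasisIndex (A ⧸ J) Q →₀ A,
      (x : A) - c.sum (fun i a => a * e i) ∈ J ^ (k + 1) := by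
    intro x
    choose lift hlift using fun a : A ⧸ J => Ideal.Quotient.mk_surjective a
    let r := bs.repr (grMap J k x)
    refine ⟨Finsupp.onFinset r.support (fun i => if i ∈ r.support then lift (r i) else 0) (by simp +contextual), ?_⟩
    rw [Finsupp.onFinset_sum _ (fun i => by simp)]
    let y : ↥(J ^ k) := x - ∑ i ∈ r.support, lift (r i) • e i
    have hy : grMap J k y = 0 := by
      rw [map_sub, map_sum, sub_eq_zero]
      conv_lhs => rw [← bs.linearCombination_repr (grMap J k x)]
      rw [Finsupp.linearCombination_apply]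
      refine Finset.sum_congr rfl fun i _ => ?_
      rw [map_smul, he]
      change r i • bs i = _
      conv_lhs => rw [← hlift (r i)]
      rw [← Ideal.Quotient.algebraMap_eq, algebraMap_smul]
    have := mem_of_grMap_eq_zero J k hy
    convert this using 2
    simp only [y, Submodule.coe_sub, Submodule.coe_sum, Submodule.coe_smul, smul_eq_mul]
    congr 1
    exact Finset.sum_congr rfl fun i hi => by rw [if_pos hi]
  have hexp : ∀ z ∈ (J ^ k).map (algebraMap A B), ∃ c : Module.Free.ChooseBasisIndex (A ⧸ J) Q →₀ B,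
      z - c.sum (fun i a => algebraMap A B (e i) * a) ∈ (J ^ (k + 1)).map (algebraMap A B) := by
    intro z hz
    rw [Ideal.map] at hz
    induction hz using Submodule.span_induction with
    | mem z hz =>
      obtain ⟨x, hx, rfl⟩ := hz
      obtain ⟨c, hc⟩ := hspan ⟨x, hx⟩
      refine ⟨c.mapRange (algebraMap A B) (map_zero _), ?_⟩
      rw [Finsupp.sum_mapRange_index fun i => by simp]
      have := Ideal.mem_map_of_mem (algebraMap A B) hc
      rw [map_sub, map_finsuppSum] at this
      simpa [mul_comm] using this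
    | zero => exact ⟨0, by simp⟩
    | add z w _ _ hz hw =>
      obtain ⟨c, hc⟩ := hz
      obtain ⟨d, hd⟩ := hw
      refine ⟨c + d, ?_⟩
      rw [Finsupp.sum_add_index' (by simp) (by intros; rw [mul_add])]
      convert add_mem hc hd using 1
      abel
    | smul a z _ hz =>
      obtain ⟨c, hc⟩ := hz
      refine ⟨a • c, ?_⟩
      rw [Finsupp.sum_smul_index' (by simp)]
      convert Ideal.mul_mem_left _ a hc using 1
      simp only [smul_eq_mul, Finsupp.sum, mul_sub, Finset.mul_sum]
      congr 1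
      exact Finset.sum_congr rfl fun i _ => by ring
  obtain ⟨c, hc⟩ := hexp t ht
  refine ⟨_, c.support, fun i => (e i : A), fun i => c i, fun i => (e i).2, hc, ?_⟩
  intro C _ _ _ f hft i₀ hi₀
  let φ : A ⧸ J →ₗ[A] C ⧸ J.map (algebraMap A C) :=
    (Ideal.quotientMapₐ (J.map (algebraMap A C)) (Algebra.ofId A C) Ideal.le_comap_map).toLinearMap
  let lam : ↥(J ^ k) →ₗ[A] A ⧸ J := ((bs.coord i₀).restrictScalars A).comp (grMap J k)
  let Λ : ↥(J ^ k) ⊗[A] C →ₗ[A] C ⧸ J.map (algebraMap A C) :=
    (LinearMap.mul' A (C ⧸ J.map (algebraMap A C))).comp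
      (TensorProduct.map (φ.comp lam) (Ideal.Quotient.mkₐ A (J.map (algebraMap A C))).toLinearMap)
  let μ : ↥(J ^ k) ⊗[A] C →ₗ[A] C :=
    (TensorProduct.lid A C).toLinearMap.comp (LinearMap.rTensor C (J ^ k : Submodule A A).subtype)
  have hμ : Function.Injective μ := (TensorProduct.lid A C).injective.comp
    (Module.Flat.rTensor_preserves_injective_linearMap (J ^ k : Submodule A A).subtype Subtype.val_injective)
  have hμt : ∀ (x : ↥(J ^ k)) (y : C), μ (x ⊗ₜ y) = algebraMap A C x * y := fun x y => by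
    simp [μ, Algebra.smul_def]
  have hΛt : ∀ (x : ↥(J ^ k)) (y : C), Λ (x ⊗ₜ y) = φ (lam x) * Ideal.Quotient.mk _ y := fun x y => by
    simp [Λ]
  have hN : ∀ w ∈ (J ^ (k + 1)).map (algebraMap A C), ∃ z, μ z = w ∧ Λ z = 0 := by
    have hkey : ∀ (y : C) (a : A), a ∈ J ^ (k + 1) → ∃ z, μ z = algebraMap A C a * y ∧ Λ z = 0 := fun y a ha =>
      ⟨(⟨a, Ideal.pow_le_pow_right k.le_succ ha⟩ : ↥(J ^ k)) ⊗ₜ y, hμt _ _, by
        rw [hΛt, show lam ⟨a, _⟩ = 0 by simp [lam, grMap_eq_zero J k (x := ⟨a, _⟩) ha], map_zero, zero_mul]⟩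
    intro w hw
    rw [Ideal.map] at hw
    induction hw using Submodule.span_induction with
    | mem w hw =>
      obtain ⟨a, ha, rfl⟩ := hw
      simpa using hkey 1 a ha
    | zero => exact ⟨0, map_zero _, map_zero _⟩
    | add w v _ _ hw hv =>
      obtain ⟨z, hz, hz'⟩ := hw
      obtain ⟨z', hz₁, hz₂⟩ := hv
      exact ⟨z + z', by rw [map_add, hz, hz₁], by rw [map_add, hz', hz₂, add_zero]⟩
    | smul y w _ hw =>
      obtain ⟨z, hz, hz'⟩ := hw
      refine ⟨LinearMap.lTensor _ (LinearMap.mulLeft A y) z, ?_, ?_⟩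
      · have : μ.comp (LinearMap.lTensor _ (LinearMap.mulLeft A y)) = (LinearMap.mulLeft A y).comp μ :=
          TensorProduct.ext' fun x c => by simp [hμt]; ring
        rw [← LinearMap.comp_apply, this, LinearMap.comp_apply, hz]
        rfl
      · have : Λ.comp (LinearMap.lTensor _ (LinearMap.mulLeft A y)) =
            (LinearMap.mulLeft A (Ideal.Quotient.mk _ y)).comp Λ :=
          TensorProduct.ext' fun x c => by simp [hΛt]; ring
        rw [← LinearMap.comp_apply, this, LinearMap.comp_apply, hz', map_zero]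
  have hsum : f (c.sum fun i a => algebraMap A B (e i) * a) ∈ (J ^ (k + 1)).map (algebraMap A C) := by
    have h1 : f (t - c.sum fun i a => algebraMap A B (e i) * a) ∈ (J ^ (k + 1)).map (algebraMap A C) := by
      have h2 := Ideal.mem_map_of_mem f.toRingHom hc
      rw [Ideal.map_map, show f.toRingHom.comp (algebraMap A B) = algebraMap A C from f.comp_algebraMap] at h2
      exact h2
    rw [map_sub] at h1
    simpa using sub_mem hft h1
  obtain ⟨z, hz, hz'⟩ := hN _ hsum
  have hze : z = ∑ i ∈ c.support, e i ⊗ₜ f (c i) := hμ (by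
    rw [hz, map_sum]
    simp only [hμt, Finsupp.sum, map_sum, map_mul, AlgHom.commutes])
  have hlam : ∀ i, lam (e i) = if i = i₀ then 1 else 0 := fun i => by
    simp [lam, he, Finsupp.single_apply]
  rw [hze, map_sum, Finset.sum_eq_single i₀] at hz'
  · rw [hΛt, hlam, if_pos rfl] at hz'
    simpa [φ, Ideal.Quotient.eq_zero_iff_mem] using hz'
  · intro i _ hi
    rw [hΛt, hlam, if_neg hi, map_zero, zero_mul]
  · exact fun h => absurd hi₀ h

end Groth.Agent.H21Gr
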